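import Groth.Agent.FormsVanish.Zero
import Groth.Agent.ComodLib.GradedAug

/-!
# Forms containing a given subscheme
-/

set_option autoImplicit false
set_option linter.style.haveILetI false
set_option linter.unusedSectionVars false
set_option maxHeartbeats 4000000
set_option synthInstance.maxHeartbeats 400000

universe u

open CategoryTheory AlgebraicGeometry Opposite

noncomputable section

namespace Groth.Agent.FormsVanish

variable (k : Type u) [Field k] {n : ℕ} {X : Scheme.{u}} [X.Over (Spec (CommRingCat.of k))]
  [IsProper (X ↘ Spec (CommRingCat.of k))]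

/-- There are at least `C(n+d,d) - h⁰(i^*O(d))` independent forms of degree `d` through `X`. -/
theorem exists_forms (d : ℕ) (i : X ⟶ CohB1.ProjSpace n k) [QuasiCompact i]
    (hi : i ≫ CohB1.ProjSpace.toSpec n k = X ↘ Spec (CommRingCat.of k)) :
    ∃ W : Submodule k (LefPen.Form n k d), (∀ G ∈ W, LefPen.hypIdeal G ≤ i.ker) ∧
      (n + d).choose d ≤ Module.finrank k W +
        Module.finrank k (Coh.HH X ((Scheme.Modules.pullback i).obj (Twist.twistProjSpace n k (d : ℤ))) 0) := by
  haveI := CurveCohLib.isNoetherian_of_proper (k := k) (X := X)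
  let O := Twist.twistProjSpace n k (d : ℤ)
  let L := (Scheme.Modules.pullback i).obj O
  have hLc := Groth.Agent.CurveDeg.isCoh_of_isInvertible (PicClLib.isInvertible_pullback i (isInvertible (n := n) (k := k) d))
  haveI := Groth.Agent.CurveCohLib.finite_HH (k := k) hLc 0
  let e := Sheaf.H.equiv₀ (Coh.toAb L) Limits.isTerminalTop
  let Φ : LefPen.Form n k d →ₗ[k] Coh.HH X L 0 :=
    { toFun := fun G => e.symm (OmegaSh.pullSect i O ⊤ (formSect G))
      map_add' := fun G H => by
        rw [← map_add e.symm]
        refine congrArg e.symm ?_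
        exact Eq.trans (congrArg (fun s => OmegaSh.pullSect i O ⊤ s)
          (PnCoh.globalOf_add (ι := Fin (n + 1)) (R := k) (d := d) G H)) (map_add (OmegaSh.pullSect i O ⊤).hom _ _)
      map_smul' := fun c G => by
        apply e.injective
        rw [RingHom.id_apply, e.apply_symm_apply]
        refine Eq.trans ?_ ((CurveCohLib.h0Equiv_smul L c _).trans
          (congrArg (fun r : Γ(X, ⊤) => r • (show Γ(L, ⊤) from e (e.symm (OmegaSh.pullSect i O ⊤ (formSect G)))))
            (show Coh.resTop X (op ⊤) _ = _ from ConcreteCategory.congr_hom (X.presheaf.map_id (op ⊤)) _))).symm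
        refine Eq.trans (congrArg (fun s => OmegaSh.pullSect i O ⊤ s) ((PnCoh.globalOf_smul c G).trans
          (congrArg (fun r : Γ(CohB1.ProjSpace n k, ⊤) => r • (show Γ(O, ⊤) from formSect G))
            (show Coh.resTop (CohB1.ProjSpace n k) (op ⊤) (Coh.toGlobal (CohB1.ProjSpace.toSpec n k) c) = _ from
              ConcreteCategory.congr_hom ((CohB1.ProjSpace n k).presheaf.map_id (op ⊤)) _)))) ?_
        refine (Scheme.Modules.Hom.app_smul ((Scheme.Modules.pullbackPushforwardAdjunction i).unit.app O) _ _).trans ?_
        show (i.app ⊤ (Coh.toGlobal (CohB1.ProjSpace.toSpec n k) c) : Γ(X, ⊤)) •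
          (OmegaSh.pullSect i O ⊤ (formSect G) : Γ(L, ⊤)) = _
        congr 1
        · show i.appTop ((CohB1.ProjSpace.toSpec n k).appTop _) = (X ↘ Spec (CommRingCat.of k)).appTop _
          rw [← hi]; rfl
        · exact (e.apply_symm_apply _).symm }
  refine ⟨LinearMap.ker Φ, fun G hG => hypIdeal_le_ker i G ?_, ?_⟩
  · have h := congrArg e (LinearMap.mem_ker.1 hG)
    rw [map_zero] at h
    exact (e.apply_symm_apply _).symm.trans h
  · obtain ⟨hfin, hdim⟩ := ComodLib.GradedAug.finrank_homogeneous (k := k) (n + 1) d
    haveI : Module.Finite k (LefPen.Form n k d) := hfin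
    have h1 := LinearMap.finrank_range_add_finrank_ker Φ
    have h2 := Submodule.finrank_le (LinearMap.range Φ)
    rw [show Module.finrank k (LefPen.Form n k d) = (n + 1 + d - 1).choose d from hdim,
      show n + 1 + d - 1 = n + d by omega] at h1
    have h2' : Module.finrank k (LinearMap.range Φ) ≤
        Module.finrank k (Coh.HH X ((Scheme.Modules.pullback i).obj (Twist.twistProjSpace n k (d : ℤ))) 0) := h2
    omega

end Groth.Agent.FormsVanish
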