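import Groth.Agent.HyperplaneLib.Sections
import Groth.Agent.LefPenLib.Hyp
import Groth.Agent.ZeroSchX.Basic
import Groth.Agent.ProjUPX.TwistFrame
import Groth.Agent.TwistX.Global
import Groth.Agent.PnCoh.Finite.TwistInv
import Groth.Agent.CliffCover.Sect

/-!
# Forms as sections of twisting sheaves

The zero scheme of the section of `O(d)` given by a form is its hypersurface; a morphism killing the
section factors through the hypersurface.
-/

set_option autoImplicit false
set_option linter.style.haveILetI false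
set_option linter.unusedSectionVars false
set_option backward.isDefEq.respectTransparency false
set_option backward.isDefEq.respectTransparency.types false
set_option maxHeartbeats 1000000
set_option synthInstance.maxHeartbeats 400000

universe u

open CategoryTheory AlgebraicGeometry Opposite HomogeneousLocalization
open Groth.Agent.AModX

noncomputable section

namespace Groth.Agent.FormsVanish

variable {k : Type u} [Field k] {n d : ℕ}

/-- The section of `O(d)` given by a form. -/
abbrev formSect (G : LefPen.Form n k d) : Γ(Twist.twist (CohB1.polyGrading n k) (d : ℤ), ⊤) :=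
  Twist.globalOf (CohB1.polyGrading n k) G

theorem glob_apply {R A : Type u} [CommRing R] [CommRing A] [Algebra R A] (𝒜 : ℕ → Submodule R A)
    [GradedAlgebra 𝒜] {d : ℕ} (a : 𝒜 d) {V : (Proj 𝒜).Opens} (x : V) :
    ((show Twist.sectN (𝒜 := 𝒜) (d : ℤ) (op V) from
        res (Twist.twist 𝒜 (d : ℤ)) (le_top : V ≤ ⊤) (show Γ(Twist.twist 𝒜 (d : ℤ), ⊤) from Twist.globalOf 𝒜 a)).1 x).1 =
      (Localization.mk (a : A) 1 : Twist.Loc 𝒜 x.1) :=
  rfl

theorem loc_aux {A : Type u} [CommRing A] (p : Ideal A) [p.IsPrime] (a t : A) (ht : t ∉ p) (d : ℕ)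
    (hle : Submonoid.powers t ≤ Submonoid.comap (RingHom.id A) p.primeCompl) :
    (Localization.mk a 1 : Localization.AtPrime p) =
      IsLocalization.map (S := Localization.Away t) (Localization.AtPrime p) (RingHom.id A) hle
        (Localization.mk a ⟨t ^ d, d, rfl⟩) * Localization.mk (t ^ d) 1 := by
  rw [Localization.mk_eq_mk' (M := Submonoid.powers t), IsLocalization.map_mk',
    ← Localization.mk_eq_mk', Localization.mk_mul, Localization.mk_eq_mk_iff,
    Localization.r_iff_exists]
  exact ⟨1, by simp; ring⟩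

theorem X_pow_mem (i : Fin (n + 1)) :
    (MvPolynomial.X i : MvPolynomial (Fin (n + 1)) k) ^ d ∈ CohB1.polyGrading n k d := by
  simpa using SetLike.pow_mem_graded d (LefPen.X_mem n k i)

theorem isFrame_X_pow (i : Fin (n + 1)) :
    InvX.IsFrame (res (Twist.twist (CohB1.polyGrading n k) (d : ℤ)) (le_top : LefPen.chart n k i ≤ ⊤)
      (formSect (⟨_, X_pow_mem i⟩ : LefPen.Form n k d))) :=
  TwistX.isFrame_res_globalOf _ fun y => TwistX.notMem_pow
    (show (MvPolynomial.X i : MvPolynomial (Fin (n + 1)) k) ∉ y.1.asHomogeneousIdeal from y.2) d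

theorem res_eq_smul (G : LefPen.Form n k d) (i : Fin (n + 1)) :
    res (Twist.twist (CohB1.polyGrading n k) (d : ℤ)) (le_top : LefPen.chart n k i ≤ ⊤) (formSect G) =
      LefPen.dehom G i • res (Twist.twist (CohB1.polyGrading n k) (d : ℤ)) (le_top : LefPen.chart n k i ≤ ⊤)
        (formSect (⟨_, X_pow_mem i⟩ : LefPen.Form n k d)) := by
  refine Subtype.ext (funext fun x => Subtype.ext ?_)
  refine (glob_apply (CohB1.polyGrading n k) G x).trans (Eq.trans ?_ (Twist.coe_smul_val (d : ℤ) x.1 _ _).symm)
  erw [glob_apply (CohB1.polyGrading n k) (⟨_, X_pow_mem i⟩ : LefPen.Form n k d) x,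
    ProjectiveSpectrum.Proj.awayToSection_apply]
  rw [Away.val_mk]
  exact loc_aux _ G.1 _ x.2 d _

theorem isInvertible (d : ℕ) : PicF.IsInvertible (Twist.twistProjSpace n k (d : ℤ)) :=
  Groth.Agent.PnCoh.Finite.isInvertible_twist (fun j : ULift.{u} (Fin (n + 1)) => MvPolynomial.X j.down)
      (fun j => Groth.Agent.ProjPt.X_mem j.down) (by
        refine top_le_iff.1 ((Groth.Agent.AmpleEmbed.iSup_basicOpen_X n k).ge.trans (iSup_le fun j => ?_))
        exact le_iSup_of_le (ULift.up j) le_rfl) (d : ℤ)

/-- The section of `O(d)` given by a form, as a morphism. -/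
def formHom (G : LefPen.Form n k d) :
    Coh.structureModule (CohB1.ProjSpace n k) ⟶ Twist.twistProjSpace n k (d : ℤ) :=
  InvX.ofSect (M := Twist.twistProjSpace n k (d : ℤ)) (formSect G)

theorem zeroScheme_formHom (G : LefPen.Form n k d) :
    PicF2.zeroScheme (Twist.twistProjSpace n k (d : ℤ)) (formHom G) = LefPen.hypIdeal G := by
  refine Scheme.IdealSheafData.ext_of_iSup_eq_top LefPenLib.chartAff LefPenLib.iSup_chart fun i => ?_
  rw [LefPenLib.hypIdeal_chart, ZeroSchX.ideal_zeroScheme (isInvertible d)]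
  refine ZeroSchX.zeroIdealOn_eq_span _ (isFrame_X_pow i) ?_
  refine Eq.trans ?_ (res_eq_smul G i)
  exact Eq.trans (b := (1 : Γ(CohB1.ProjSpace n k, LefPen.chart n k i)) •
    AModX.res (Twist.twistProjSpace n k (d : ℤ)) (le_top : LefPen.chart n k i ≤ ⊤) (formSect G)) rfl (one_smul _ _)

/-- A morphism killing the section given by a form factors through the hypersurface. -/
theorem hypIdeal_le_ker {X : Scheme.{u}} (i : X ⟶ CohB1.ProjSpace n k) [QuasiCompact i] (G : LefPen.Form n k d)
    (h : OmegaSh.pullSect i (Twist.twistProjSpace n k (d : ℤ)) ⊤ (formSect G) = 0) :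
    LefPen.hypIdeal G ≤ i.ker := by
  rw [← zeroScheme_formHom G]
  refine HyperplaneLib.zeroScheme_le_ker (isInvertible d) (formHom G) i ?_
  have hs : PicF2.secVal (Twist.twistProjSpace n k (d : ℤ)) (formHom G) ⊤ = formSect G :=
    Eq.trans (b := (1 : Γ(CohB1.ProjSpace n k, ⊤)) •
      AModX.res (Twist.twistProjSpace n k (d : ℤ)) (le_top : (⊤ : (CohB1.ProjSpace n k).Opens) ≤ ⊤) (formSect G))
      rfl ((one_smul _ _).trans (AModX.res_self _))
  rw [hs]
  exact h

end Groth.Agent.FormsVanish
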